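-- Geometric sums in the natural numbers for metacyclic p-groups, p odd.
--
-- Main results (namespace `Cfsg.Agent.Metacyclic`):
-- * `geom r q = ∑ e < q, r ^ e`, `geom_add`, `geom_mul`, `succ_pow_eq`
-- * `geom_prime_pow`: for `r ≡ 1 (mod p)`, `geom r (p ^ t) = p ^ t * w` with `w ≡ 1 (mod p)`
-- * `pow_dvd_geom_iff`: `p ^ t ∣ geom r j ↔ p ^ t ∣ j`
import Cfsg.Agent.EqLemmas

set_option autoImplicit false

namespace Cfsg.Agent.Metacyclic

/-- The geometric sum `1 + r + ⋯ + r ^ (q - 1)`. -/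
def geom (r q : ℕ) : ℕ := ∑ e ∈ Finset.range q, r ^ e

theorem geom_zero (r : ℕ) : geom r 0 = 0 := Finset.sum_range_zero _

theorem geom_one (r : ℕ) : geom r 1 = 1 := by simp [geom]

theorem geom_succ (r q : ℕ) : geom r (q + 1) = 1 + r * geom r q := by
  rw [geom, Finset.sum_range_succ', geom, Finset.mul_sum, pow_zero, add_comm]
  congr 1
  exact Finset.sum_congr rfl fun e _ => pow_succ' r e

theorem geom_add (r x y : ℕ) : geom r (x + y) = geom r x + r ^ x * geom r y := by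
  simp only [geom, Finset.sum_range_add, Finset.mul_sum, pow_add]

theorem succ_pow_eq (d q : ℕ) : (d + 1) ^ q = 1 + d * geom (d + 1) q := by
  induction q with
  | zero => simp [geom_zero]
  | succ q ih => rw [geom_succ, pow_succ, ih]; ring

theorem geom_mul (r x y : ℕ) : geom r (x * y) = geom r x * geom (r ^ x) y := by
  induction y with
  | zero => simp [geom_zero]
  | succ y ih =>
    rw [show x * (y + 1) = x + x * y by ring, geom_add, ih, geom_succ]
    ring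

theorem geom_zmod {p : ℕ} {r : ℕ} (hr : (r : ZMod p) = 1) (q : ℕ) : (geom r q : ZMod p) = q := by
  simp [geom, hr]

variable {p : ℕ} [hp : Fact p.Prime]

theorem geom_prime (hp2 : p ≠ 2) {r : ℕ} (hr : (r : ZMod p) = 1) :
    ∃ w : ℕ, geom r p = p * w ∧ (w : ZMod p) = 1 := by
  have h1 : p ∣ geom r p := by
    rw [← ZMod.natCast_eq_zero_iff, geom_zmod hr, ZMod.natCast_self]
  obtain ⟨w, hw⟩ := h1
  refine ⟨w, hw, ?_⟩
  obtain ⟨c, hc⟩ : ∃ c : ℤ, (r : ℤ) - 1 = p * c := by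
    have : (p : ℤ) ∣ (r : ℤ) - 1 := by
      rw [← ZMod.intCast_zmod_eq_zero_iff_dvd]
      simp [hr]
    exact this
  have hterm : ∀ e : ℕ, ((p : ℤ) ^ 2) ∣ ((r : ℤ) ^ e - (1 + e * (p * c))) := by
    intro e
    induction e with
    | zero => simp
    | succ e ih =>
      obtain ⟨z, hz⟩ := ih
      refine ⟨(1 + p * c) * z + e * c ^ 2, ?_⟩
      have hr' : (r : ℤ) = 1 + p * c := by rw [← hc]; ring
      have he : (r : ℤ) ^ e = (p : ℤ) ^ 2 * z + (1 + e * (p * c)) := by rw [← hz]; ring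
      rw [pow_succ, he, hr']
      push_cast
      ring
  have hsum : ((p : ℤ) ^ 2) ∣ (geom r p : ℤ) - p := by
    have h2 : ((p : ℤ) ^ 2) ∣ (geom r p : ℤ) - ∑ e ∈ Finset.range p, (1 + (e : ℤ) * (p * c)) := by
      rw [geom, Nat.cast_sum, ← Finset.sum_sub_distrib]
      refine Finset.dvd_sum fun e _ => ?_
      push_cast
      exact hterm e
    obtain ⟨h, hh⟩ : ∃ h : ℕ, ∑ e ∈ Finset.range p, e = p * h := by
      obtain ⟨k, hk⟩ := (hp.out.eq_two_or_odd').resolve_left hp2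
      refine ⟨k, Nat.eq_of_mul_eq_mul_right (show 0 < 2 by norm_num) ?_⟩
      rw [Finset.sum_range_id_mul_two]
      rw [show p - 1 = 2 * k by omega]
      ring
    have h3 : ∑ e ∈ Finset.range p, (1 + (e : ℤ) * (p * c)) = p + (p : ℤ) ^ 2 * ((h : ℤ) * c) := by
      rw [Finset.sum_add_distrib, ← Finset.sum_mul, ← Nat.cast_sum, hh]
      push_cast
      simp
      ring
    rw [h3] at h2
    have := dvd_add h2 (dvd_mul_right ((p : ℤ) ^ 2) ((h : ℤ) * c))
    ring_nf at this ⊢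
    exact this
  rw [hw] at hsum
  push_cast at hsum
  rw [pow_two, ← mul_sub_one, mul_dvd_mul_iff_left (by exact_mod_cast hp.out.ne_zero)] at hsum
  rw [← sub_eq_zero]
  have := (ZMod.intCast_zmod_eq_zero_iff_dvd _ _).mpr hsum
  simpa using this

theorem geom_prime_pow (hp2 : p ≠ 2) {r : ℕ} (hr : (r : ZMod p) = 1) (t : ℕ) :
    ∃ w : ℕ, geom r (p ^ t) = p ^ t * w ∧ (w : ZMod p) = 1 := by
  induction t with
  | zero => exact ⟨1, by simp [geom_one], by simp⟩
  | succ t ih =>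
    obtain ⟨w, hw, hw1⟩ := ih
    obtain ⟨v, hv, hv1⟩ := geom_prime hp2 (r := r ^ p ^ t) (by push_cast; rw [hr, one_pow])
    refine ⟨w * v, ?_, by push_cast; rw [hw1, hv1, one_mul]⟩
    rw [pow_succ, geom_mul, hw, hv]
    ring

theorem pow_dvd_geom_iff (hp2 : p ≠ 2) {r : ℕ} (hr : (r : ZMod p) = 1) (t j : ℕ) :
    p ^ t ∣ geom r j ↔ p ^ t ∣ j := by
  rcases eq_or_ne j 0 with rfl | hj
  · simp [geom_zero]
  obtain ⟨s, q, hq, rfl⟩ := Nat.exists_eq_pow_mul_and_not_dvd hj p hp.out.ne_one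
  obtain ⟨w, hw, hw1⟩ := geom_prime_pow hp2 hr s
  have hq' : (q : ZMod p) ≠ 0 := fun h => hq ((ZMod.natCast_eq_zero_iff q p).mp h)
  rw [geom_mul, hw]
  have hu : ¬ p ∣ w * geom (r ^ p ^ s) q := by
    rw [← ZMod.natCast_eq_zero_iff, Nat.cast_mul, hw1, one_mul,
      geom_zmod (by push_cast; rw [hr, one_pow])]
    exact hq'
  have key : ∀ u : ℕ, ¬ p ∣ u → (p ^ t ∣ p ^ s * u ↔ p ^ t ∣ p ^ s) := fun u hu =>
    (Nat.Coprime.pow_left t ((hp.out.coprime_iff_not_dvd).mpr hu)).dvd_mul_right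
  rw [mul_assoc, key _ hu, key _ hq]

/-- The unit part of a geometric sum over a `p`-power. -/
theorem geom_prime_pow_unit (hp2 : p ≠ 2) {r : ℕ} (hr : (r : ZMod p) = 1) (t m : ℕ) :
    ∃ w : ℕ, geom r (p ^ t) = p ^ t * w ∧ IsUnit (w : ZMod (p ^ m)) := by
  obtain ⟨w, hw, hw1⟩ := geom_prime_pow hp2 hr t
  refine ⟨w, hw, (ZMod.isUnit_iff_coprime _ _).mpr (Nat.Coprime.pow_right m ?_)⟩
  rw [Nat.coprime_comm, hp.out.coprime_iff_not_dvd, ← ZMod.natCast_eq_zero_iff, hw1]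
  exact one_ne_zero

end Cfsg.Agent.Metacyclic
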