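-- Metacyclic p-groups for odd p: coordinates modulo the centre.
--
-- Main results (namespace `Cfsg.Agent.Metacyclic`):
-- * `Data p G`: generators `a`, `b` with `b a b⁻¹ = a ^ (d + 1)`, `p ∣ d`, `orderOf (a ^ d) = p ^ n`
-- * `exists_data`, `Data.card_commutator`
-- * `Data.coord : G → ZMod (p ^ n) × ZMod (p ^ n)`: `coord_mk`, `coord_mul`, `commute_iff`, `coord_eq_zero_iff`,
--   `coord_surjective`, `card_subtype`, `index_center`
-- * `Data.level`: `index_centralizer_le_iff`, `card_level`, `mem_closure_pow_iff`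
import Cfsg.Agent.Lib.Metacyclic.Geom

set_option autoImplicit false
set_option linter.unusedSectionVars false

namespace Cfsg.Agent.Metacyclic

open scoped commutatorElement

/-- Generators of a metacyclic `p`-group. -/
structure Data (p : ℕ) (G : Type*) [Group G] where
  /-- generator of the normal cyclic subgroup -/
  a : G
  /-- generator of the quotient -/
  b : G
  /-- `b` conjugates `a` to its `(d + 1)`-st power -/
  d : ℕ
  /-- the derived subgroup has order `p ^ n` -/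
  n : ℕ
  hodd : p ≠ 2
  hd : p ∣ d
  hconj : b * a * b⁻¹ = a ^ (d + 1)
  hgen : ∀ g : G, ∃ i j : ℕ, g = a ^ i * b ^ j
  hn : orderOf (a ^ d) = p ^ n

theorem exists_data {G : Type*} [Group G] [Finite G] {p : ℕ} [Fact p.Prime] (hp : p ≠ 2)
    (hG : IsPGroup p G) (hmc : Cfsg.IsMetacyclic G) : Nonempty (Data p G) := by
  classical
  have hpp : p.Prime := Fact.out
  obtain ⟨N, hN, hcy, hcq⟩ := hmc
  obtain ⟨⟨a, haN⟩, ha⟩ := hcy.exists_generator
  obtain ⟨q, hq⟩ := hcq.exists_generator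
  obtain ⟨b, rfl⟩ := QuotientGroup.mk_surjective q
  have haN' : ∀ x ∈ N, ∃ i : ℕ, x = a ^ i := by
    intro x hx
    obtain ⟨i, hi⟩ := (mem_powers_iff_mem_zpowers (x := (⟨a, haN⟩ : N)) (y := ⟨x, hx⟩)).mpr (ha _)
    exact ⟨i, (congrArg Subtype.val hi).symm⟩
  have hgen : ∀ g : G, ∃ i j : ℕ, g = a ^ i * b ^ j := by
    intro g
    obtain ⟨j, hj⟩ := (mem_powers_iff_mem_zpowers (x := (b : G ⧸ N)) (y := (g : G ⧸ N))).mpr (hq _)
    have : g * (b ^ j)⁻¹ ∈ N := by
      rw [← QuotientGroup.eq_one_iff, QuotientGroup.mk_mul, QuotientGroup.mk_inv, QuotientGroup.mk_pow]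
      simp only at hj
      rw [hj, mul_inv_cancel]
    obtain ⟨i, hi⟩ := haN' _ this
    exact ⟨i, j, by rw [← hi, inv_mul_cancel_right]⟩
  obtain ⟨r₀, hr₀⟩ := haN' _ (hN.conj_mem a haN b)
  obtain ⟨d, hd, hconj⟩ : ∃ d, p ∣ d ∧ b * a * b⁻¹ = a ^ (d + 1) := by
    obtain ⟨m, hm⟩ := IsPGroup.iff_orderOf.mp hG a
    rcases Nat.eq_zero_or_pos m with rfl | hmpos
    · rw [pow_zero, orderOf_eq_one_iff] at hm
      exact ⟨0, dvd_zero p, by simp [hm]⟩
    obtain ⟨k, hk⟩ := IsPGroup.iff_orderOf.mp hG b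
    set r := r₀ + orderOf a with hr
    have hra : b * a * b⁻¹ = a ^ r := by rw [hr, pow_add, pow_orderOf_eq_one, mul_one, hr₀]
    have hiter : ∀ j : ℕ, b ^ j * a * (b ^ j)⁻¹ = a ^ (r ^ j) := by
      intro j
      induction j with
      | zero => simp
      | succ j ih =>
        rw [pow_succ', pow_succ, mul_inv_rev, show b * b ^ j * a * ((b ^ j)⁻¹ * b⁻¹) =
          b * (b ^ j * a * (b ^ j)⁻¹) * b⁻¹ by group, ih, ← conj_pow, hra, ← pow_mul, mul_comm]
    have h1 := hiter (p ^ k)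
    rw [show b ^ p ^ k = 1 from by rw [← hk, pow_orderOf_eq_one], one_mul, inv_one, mul_one] at h1
    nth_rewrite 1 [← pow_one a] at h1
    rw [pow_eq_pow_iff_modEq, hm] at h1
    have h2 : (1 : ZMod p) = (r : ZMod p) := by
      have := (ZMod.natCast_eq_natCast_iff _ _ _).mpr (h1.of_dvd (dvd_pow_self p hmpos.ne'))
      rw [Nat.cast_one, Nat.cast_pow, ZMod.pow_card_pow] at this
      exact this
    have hr1 : 1 ≤ r := by
      have := orderOf_pos a
      omega
    refine ⟨r - 1, ?_, by rw [Nat.sub_add_cancel hr1, hra]⟩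
    rw [← ZMod.natCast_eq_zero_iff, Nat.cast_sub hr1, Nat.cast_one, h2, sub_self]
  obtain ⟨n, hn⟩ := IsPGroup.iff_orderOf.mp hG (a ^ d)
  exact ⟨⟨a, b, d, n, hp, hd, hconj, hgen, hn⟩⟩

namespace Data

variable {G : Type*} [Group G] {p : ℕ} [Fact p.Prime] (D : Data p G)

theorem cast_succ_d : ((D.d + 1 : ℕ) : ZMod p) = 1 := by
  rw [Nat.cast_succ, (ZMod.natCast_eq_zero_iff _ _).mpr D.hd, zero_add]

theorem conj_pow_a (j k : ℕ) : D.b ^ j * D.a ^ k = D.a ^ ((D.d + 1) ^ j * k) * D.b ^ j := by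
  induction j with
  | zero => simp
  | succ j ih =>
    have h : ∀ i : ℕ, D.b * D.a ^ i = D.a ^ ((D.d + 1) * i) * D.b := fun i => by
      rw [pow_mul, ← D.hconj, conj_pow, inv_mul_cancel_right]
    rw [pow_succ', mul_assoc, ih, ← mul_assoc, h, mul_assoc, ← mul_assoc (D.d + 1) ((D.d + 1) ^ j) k,
      ← pow_succ' (D.d + 1) j]

theorem mul_eq (i j k l : ℕ) :
    (D.a ^ i * D.b ^ j) * (D.a ^ k * D.b ^ l) = D.a ^ (i + (D.d + 1) ^ j * k) * D.b ^ (j + l) := by
  rw [mul_assoc, ← mul_assoc (D.b ^ j), conj_pow_a, mul_assoc, ← pow_add D.b, ← mul_assoc, ← pow_add]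

theorem pow_eq (i j k : ℕ) :
    (D.a ^ i * D.b ^ j) ^ k = D.a ^ (i * geom ((D.d + 1) ^ j) k) * D.b ^ (j * k) := by
  induction k with
  | zero => simp [geom_zero]
  | succ k ih =>
    rw [pow_succ', ih, mul_eq, geom_succ]
    congr 2 <;> ring

/-- The commutator of two elements of `G` in terms of exponents. -/
theorem commutator_eq (i j k l : ℕ) :
    ⁅D.a ^ i * D.b ^ j, D.a ^ k * D.b ^ l⁆ =
      (D.a ^ D.d) ^ ((k : ℤ) * geom (D.d + 1) j - (i : ℤ) * geom (D.d + 1) l) := by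
  have e : ∀ x y : G, ⁅x, y⁆ = (x * y) * (y * x)⁻¹ := fun x y => by
    rw [commutatorElement_def, mul_inv_rev, ← mul_assoc]
  rw [e, mul_eq, mul_eq, add_comm l j, succ_pow_eq, succ_pow_eq]
  simp only [mul_inv_rev, mul_assoc, mul_inv_cancel_left]
  rw [← zpow_natCast D.a D.d, ← zpow_mul, ← zpow_natCast, ← zpow_natCast, ← zpow_neg, ← zpow_add]
  congr 1
  push_cast
  ring

theorem zpow_d_eq_iff (x y : ℤ) :
    (D.a ^ D.d) ^ x = (D.a ^ D.d) ^ y ↔ (x : ZMod (p ^ D.n)) = (y : ZMod (p ^ D.n)) := by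
  rw [zpow_eq_zpow_iff_modEq, D.hn, ZMod.intCast_eq_intCast_iff]

/-- Exponents of an element. -/
noncomputable def expA (g : G) : ℕ := Classical.choose (D.hgen g)

/-- Exponents of an element. -/
noncomputable def expB (g : G) : ℕ := Classical.choose (Classical.choose_spec (D.hgen g))

theorem eq_exp (g : G) : g = D.a ^ D.expA g * D.b ^ D.expB g :=
  Classical.choose_spec (Classical.choose_spec (D.hgen g))

/-- The coordinates of an element modulo the centre. -/
noncomputable def coord (g : G) : ZMod (p ^ D.n) × ZMod (p ^ D.n) :=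
  ((D.expA g : ZMod (p ^ D.n)), (geom (D.d + 1) (D.expB g) : ZMod (p ^ D.n)))

theorem coord_mk (i j : ℕ) :
    D.coord (D.a ^ i * D.b ^ j) = ((i : ZMod (p ^ D.n)), (geom (D.d + 1) j : ZMod (p ^ D.n))) := by
  have key : ∀ k l : ℕ,
      ((k : ℤ) * geom (D.d + 1) (D.expB (D.a ^ i * D.b ^ j)) -
        (D.expA (D.a ^ i * D.b ^ j) : ℤ) * geom (D.d + 1) l : ℤ) =
      (((k : ℤ) * geom (D.d + 1) j - (i : ℤ) * geom (D.d + 1) l : ℤ) : ZMod (p ^ D.n)) := by
    intro k l
    rw [← zpow_d_eq_iff, ← commutator_eq, ← commutator_eq, ← eq_exp]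
  have h1 := key 1 0
  have h2 := key 0 1
  simp only [geom_one, geom_zero] at h1 h2
  push_cast at h1 h2
  refine Prod.ext ?_ ?_
  · simpa [coord] using h2
  · simpa [coord] using h1

/-- The determinant pairing on coordinates. -/
def det (u v : ZMod (p ^ D.n) × ZMod (p ^ D.n)) : ZMod (p ^ D.n) := u.1 * v.2 - u.2 * v.1

theorem commute_iff (g h : G) : Commute g h ↔ D.det (D.coord g) (D.coord h) = 0 := by
  obtain ⟨i, j, rfl⟩ := D.hgen g
  obtain ⟨k, l, rfl⟩ := D.hgen h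
  rw [← commutatorElement_eq_one_iff_commute, commutator_eq, coord_mk, coord_mk, det,
    ← zpow_zero (D.a ^ D.d), zpow_d_eq_iff]
  push_cast
  rw [sub_eq_zero, sub_eq_zero]
  exact ⟨fun h => by rw [mul_comm _ (k : ZMod (p ^ D.n))]; exact h.symm,
    fun h => by rw [mul_comm _ (k : ZMod (p ^ D.n))] at h; exact h.symm⟩

theorem coord_one : D.coord 1 = 0 := by
  have := D.coord_mk 0 0
  simp [geom_zero] at this
  exact this

theorem coord_mul (g h : G) :
    D.coord (g * h) = D.coord g + (1 + (D.d : ZMod (p ^ D.n)) * (D.coord g).2) • D.coord h := by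
  obtain ⟨i, j, rfl⟩ := D.hgen g
  obtain ⟨k, l, rfl⟩ := D.hgen h
  rw [mul_eq, coord_mk, coord_mk, coord_mk, geom_add, succ_pow_eq]
  push_cast
  simp

theorem isUnit_scalar (x : ZMod (p ^ D.n)) : IsUnit (1 + (D.d : ZMod (p ^ D.n)) * x) := by
  refine IsNilpotent.isUnit_one_add ?_
  obtain ⟨c, hc⟩ := D.hd
  refine ⟨D.n, ?_⟩
  rw [mul_pow, hc, Nat.cast_mul, mul_pow, ← Nat.cast_pow, ZMod.natCast_self, zero_mul, zero_mul]

theorem coord_mul_eq_left_iff (g z : G) : D.coord (g * z) = D.coord g ↔ D.coord z = 0 := by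
  rw [coord_mul, add_eq_left]
  exact (D.isUnit_scalar _).smul_eq_zero

theorem coord_eq_zero_iff (g : G) : D.coord g = 0 ↔ g ∈ Subgroup.center G := by
  rw [Subgroup.mem_center_iff]
  constructor
  · intro h x
    exact ((commute_iff D x g).mpr (by simp [h, det])).eq
  · intro h
    have h1 := (commute_iff D D.a g).mp (h D.a)
    have h2 := (commute_iff D D.b g).mp (h D.b)
    have ea : D.coord D.a = (1, 0) := by simpa [geom_zero] using D.coord_mk 1 0
    have eb : D.coord D.b = (0, 1) := by simpa [geom_one] using D.coord_mk 0 1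
    rw [ea, det] at h1
    rw [eb, det] at h2
    simp at h1 h2
    exact Prod.ext h2 h1

theorem geom_cast_injective {j l : ℕ} (hj : j < p ^ D.n) (hl : l < p ^ D.n)
    (h : (geom (D.d + 1) j : ZMod (p ^ D.n)) = geom (D.d + 1) l) : j = l := by
  wlog hle : l ≤ j generalizing j l
  · exact (this hl hj h.symm (le_of_not_ge hle)).symm
  obtain ⟨c, rfl⟩ := Nat.exists_eq_add_of_le hle
  rw [geom_add, Nat.cast_add, add_eq_left, succ_pow_eq, Nat.cast_mul, Nat.cast_add, Nat.cast_one,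
    Nat.cast_mul, (D.isUnit_scalar _).mul_right_eq_zero, ZMod.natCast_eq_zero_iff,
    pow_dvd_geom_iff D.hodd D.cast_succ_d] at h
  rcases Nat.eq_zero_or_pos c with hc | hc
  · omega
  · have := Nat.le_of_dvd hc h
    omega

theorem coord_surjective : Function.Surjective D.coord := by
  intro u
  have hinj : Function.Injective
      (fun j : Fin (p ^ D.n) => (geom (D.d + 1) j : ZMod (p ^ D.n))) :=
    fun j l h => Fin.ext (D.geom_cast_injective j.2 l.2 h)
  obtain ⟨j, hj⟩ := ((Nat.bijective_iff_injective_and_card _).mpr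
    ⟨hinj, by rw [Nat.card_eq_fintype_card, Fintype.card_fin, Nat.card_zmod]⟩).2 u.2
  exact ⟨D.a ^ u.1.val * D.b ^ (j : ℕ), by rw [coord_mk, ZMod.natCast_zmod_val]; exact Prod.ext rfl hj⟩

variable [Finite G]

/-- Elements with prescribed coordinates form cosets of the centre. -/
theorem card_subtype (P : ZMod (p ^ D.n) × ZMod (p ^ D.n) → Prop) :
    Nat.card {g : G // P (D.coord g)} = Nat.card ↥(Subgroup.center G) * Nat.card {u // P u} := by
  set σ := Function.surjInv D.coord_surjective with hσ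
  have hs : ∀ u, D.coord (σ u) = u := Function.surjInv_eq D.coord_surjective
  rw [← Nat.card_prod]
  refine Nat.card_congr
    { toFun := fun g => (⟨(σ (D.coord g))⁻¹ * g, ?_⟩, ⟨D.coord g, g.2⟩)
      invFun := fun x => ⟨σ x.2.1 * x.1.1, ?_⟩
      left_inv := fun g => Subtype.ext (by simp)
      right_inv := fun x => ?_ }
  · rw [← coord_eq_zero_iff D, ← coord_mul_eq_left_iff D (σ (D.coord g)), mul_inv_cancel_left, hs]
  · rw [(coord_mul_eq_left_iff D _ _).mpr ((coord_eq_zero_iff D _).mpr x.1.2), hs]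
    exact x.2.2
  · have : D.coord (σ x.2.1 * x.1.1) = x.2.1 := by
      rw [(coord_mul_eq_left_iff D _ _).mpr ((coord_eq_zero_iff D _).mpr x.1.2), hs]
    refine Prod.ext (Subtype.ext ?_) (Subtype.ext this)
    simp [this]

theorem index_center : (Subgroup.center G).index = (p ^ D.n) ^ 2 := by
  have h := D.card_subtype (fun _ => True)
  rw [Nat.card_congr (Equiv.subtypeUnivEquiv fun _ => trivial),
    Nat.card_congr (Equiv.subtypeUnivEquiv fun _ => trivial), Nat.card_prod, Nat.card_zmod,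
    ← (Subgroup.center G).card_mul_index] at h
  rw [Nat.eq_of_mul_eq_mul_left Nat.card_pos h, pow_two]

theorem card_commutator : Nat.card ↥(commutator G) = p ^ D.n := by
  suffices h : commutator G = Subgroup.zpowers (D.a ^ D.d) by rw [h, Nat.card_zpowers, D.hn]
  apply le_antisymm
  · rw [commutator_def, Subgroup.commutator_le]
    intro g _ h _
    obtain ⟨i, j, rfl⟩ := D.hgen g
    obtain ⟨k, l, rfl⟩ := D.hgen h
    rw [commutator_eq]
    exact Subgroup.zpow_mem _ (Subgroup.mem_zpowers _) _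
  · rw [Subgroup.zpowers_le]
    have := D.commutator_eq 0 1 1 0
    simp [geom_one, geom_zero] at this
    rw [← this]
    exact Subgroup.commutator_mem_commutator (Subgroup.mem_top _) (Subgroup.mem_top _)

theorem index_centralizer (g : G) : (Subgroup.centralizer ({g} : Set G)).index =
    Nat.card (AddMonoidHom.range
      (AddMonoidHom.mk' (D.det (D.coord g)) (fun u v => by simp only [det, Prod.fst_add, Prod.snd_add]; ring))) := by
  set L := AddMonoidHom.mk' (D.det (D.coord g)) (fun u v => by simp only [det, Prod.fst_add, Prod.snd_add]; ring) with hL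
  have hC : Nat.card ↥(Subgroup.centralizer ({g} : Set G)) = Nat.card ↥(Subgroup.center G) * Nat.card L.ker := by
    have h := D.card_subtype (fun u => u ∈ L.ker)
    rw [← h]
    refine Nat.card_congr (Equiv.subtypeEquivRight fun x => ?_)
    rw [Subgroup.mem_centralizer_singleton_iff, AddMonoidHom.mem_ker]
    exact ⟨fun e => (commute_iff D g x).mp e.symm, fun e => ((commute_iff D g x).mpr e).eq.symm⟩
  have h1 := (Subgroup.centralizer ({g} : Set G)).card_mul_index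
  rw [← (Subgroup.center G).card_mul_index, index_center D, hC, mul_assoc] at h1
  have h2 := L.ker.card_mul_index
  rw [AddSubgroup.index_ker, Nat.card_prod, Nat.card_zmod, ← pow_two, ← Nat.eq_of_mul_eq_mul_left Nat.card_pos h1] at h2
  exact (Nat.eq_of_mul_eq_mul_left Nat.card_pos h2).symm

omit [Finite G] in
theorem natCast_pow_dvd_iff {s : ℕ} (hs : s ≤ D.n) (i : ℕ) :
    (p ^ s : ℕ) ∣ i ↔ ((p ^ s : ℕ) : ZMod (p ^ D.n)) ∣ (i : ZMod (p ^ D.n)) := by
  refine ⟨fun h => map_dvd (Nat.castRingHom (ZMod (p ^ D.n))) h, fun h => ?_⟩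
  have := map_dvd (ZMod.castHom (pow_dvd_pow p hs) (ZMod (p ^ s))) h
  rwa [map_natCast, map_natCast, ZMod.natCast_self, zero_dvd_iff, ZMod.natCast_eq_zero_iff] at this

omit [Finite G] in
theorem pow_dvd_coord_iff {s : ℕ} (hs : s ≤ D.n) (i j : ℕ) :
    (∃ v, D.coord (D.a ^ i * D.b ^ j) = ((p ^ s : ℕ) : ZMod (p ^ D.n)) • v) ↔ p ^ s ∣ i ∧ p ^ s ∣ j := by
  rw [coord_mk, ← pow_dvd_geom_iff D.hodd D.cast_succ_d s j, natCast_pow_dvd_iff D hs,
    natCast_pow_dvd_iff D hs]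
  constructor
  · rintro ⟨v, hv⟩
    exact ⟨⟨v.1, congrArg Prod.fst hv⟩, ⟨v.2, congrArg Prod.snd hv⟩⟩
  · rintro ⟨⟨x, hx⟩, ⟨y, hy⟩⟩
    exact ⟨(x, y), Prod.ext hx hy⟩

/-- The elements all of whose coordinates are divisible by `p ^ s`. -/
def level (s : ℕ) : Subgroup G where
  carrier := {g | ∃ v, D.coord g = ((p ^ s : ℕ) : ZMod (p ^ D.n)) • v}
  one_mem' := ⟨0, by rw [coord_one, smul_zero]⟩
  mul_mem' := by
    rintro g h ⟨v, hv⟩ ⟨w, hw⟩
    exact ⟨v + (1 + (D.d : ZMod (p ^ D.n)) * (D.coord g).2) • w,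
      by rw [coord_mul, hw, smul_add, hv, smul_comm]⟩
  inv_mem' := by
    rintro g ⟨v, hv⟩
    obtain ⟨u, hu⟩ := D.isUnit_scalar (D.coord g).2
    refine ⟨((u⁻¹ : (ZMod (p ^ D.n))ˣ) : ZMod (p ^ D.n)) • (-v), ?_⟩
    have h := D.coord_mul g g⁻¹
    rw [mul_inv_cancel, coord_one, ← hu, eq_comm, add_eq_zero_iff_eq_neg'] at h
    rw [smul_comm, smul_neg, ← hv, ← h, smul_smul, Units.inv_mul, one_smul]

omit [Finite G] in
theorem mem_level_iff {s : ℕ} (hs : s ≤ D.n) {g : G} {i j : ℕ} (hg : g = D.a ^ i * D.b ^ j) :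
    g ∈ D.level s ↔ p ^ s ∣ i ∧ p ^ s ∣ j := by
  rw [← D.pow_dvd_coord_iff hs i j, ← hg]
  rfl

theorem card_multiples {s : ℕ} (hs : s ≤ D.n) :
    Nat.card {x : ZMod (p ^ D.n) // ((p ^ s : ℕ) : ZMod (p ^ D.n)) ∣ x} = p ^ (D.n - s) := by
  have h : Nat.card {x : ZMod (p ^ D.n) // ((p ^ s : ℕ) : ZMod (p ^ D.n)) ∣ x} =
      Nat.card (AddSubgroup.zmultiples ((p ^ s : ℕ) : ZMod (p ^ D.n))) := by
    refine Nat.card_congr (Equiv.subtypeEquivRight fun x => ⟨?_, ?_⟩)
    · rintro ⟨c, rfl⟩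
      refine AddSubgroup.mem_zmultiples_iff.mpr ⟨(c.val : ℤ), ?_⟩
      rw [zsmul_eq_mul, Int.cast_natCast, ZMod.natCast_zmod_val, mul_comm]
    · rintro ⟨k, rfl⟩
      exact ⟨(k : ZMod (p ^ D.n)), by simp [mul_comm]⟩
  rw [h, Nat.card_zmultiples, ZMod.addOrderOf_coe _ (pow_ne_zero _ (Fact.out : p.Prime).ne_zero),
    Nat.gcd_eq_right (pow_dvd_pow p hs), Nat.pow_div hs (Fact.out : p.Prime).pos]

/-- The class of `g` has at most `p ^ (n - s)` elements iff `g` lies in level `s`. -/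
theorem index_centralizer_le_iff {s : ℕ} (hs : s ≤ D.n) (g : G) :
    (Subgroup.centralizer ({g} : Set G)).index ≤ p ^ (D.n - s) ↔ g ∈ D.level s := by
  classical
  have hp : p.Prime := Fact.out
  obtain ⟨i, j, hg⟩ := D.hgen g
  set t := Nat.findGreatest (fun t => p ^ t ∣ i ∧ p ^ t ∣ j) D.n with ht
  have htn : t ≤ D.n := Nat.findGreatest_le _
  have htspec : p ^ t ∣ i ∧ p ^ t ∣ j :=
    Nat.findGreatest_spec (P := fun t => p ^ t ∣ i ∧ p ^ t ∣ j) (Nat.zero_le _) (by simp)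
  have hst : g ∈ D.level s ↔ s ≤ t := by
    rw [D.mem_level_iff hs hg]
    exact ⟨fun h => Nat.le_findGreatest hs h,
      fun h => ⟨(pow_dvd_pow p h).trans htspec.1, (pow_dvd_pow p h).trans htspec.2⟩⟩
  have hidx : (Subgroup.centralizer ({g} : Set G)).index = p ^ (D.n - t) := by
    rw [index_centralizer D, ← card_multiples D htn]
    refine Nat.card_congr (Equiv.subtypeEquivRight fun x => ?_)
    rw [AddMonoidHom.mem_range]
    obtain ⟨w, hw⟩ : g ∈ D.level t := (D.mem_level_iff htn hg).mpr htspec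
    constructor
    · rintro ⟨v, rfl⟩
      refine ⟨w.1 * v.2 - w.2 * v.1, ?_⟩
      show D.det (D.coord g) v = _
      rw [hw, det]
      simp only [Prod.smul_fst, Prod.smul_snd, smul_eq_mul]
      ring
    · rintro ⟨c, rfl⟩
      -- one of the coordinates is a unit times `p ^ t`
      rcases eq_or_lt_of_le htn with he | hlt
      · refine ⟨0, ?_⟩
        rw [map_zero, he, ZMod.natCast_self, zero_mul]
      have hnot : ¬ (p ^ (t + 1) ∣ i ∧ p ^ (t + 1) ∣ j) :=
        Nat.findGreatest_is_greatest (P := fun t => p ^ t ∣ i ∧ p ^ t ∣ j) (Nat.lt_succ_self t) hlt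
      have unit_of : ∀ x : ℕ, p ^ t ∣ x → ¬ p ^ (t + 1) ∣ x →
          ∃ u : (ZMod (p ^ D.n))ˣ, (x : ZMod (p ^ D.n)) = ((p ^ t : ℕ) : ZMod (p ^ D.n)) * u := by
        rintro x ⟨q, rfl⟩ hx
        have hq : ¬ p ∣ q := fun h => hx (by rw [pow_succ]; exact Nat.mul_dvd_mul_left _ h)
        refine ⟨ZMod.unitOfCoprime q (Nat.Coprime.pow_right _ ((hp.coprime_iff_not_dvd).mpr hq).symm), ?_⟩
        rw [ZMod.coe_unitOfCoprime, Nat.cast_mul]
      by_cases hi : p ^ (t + 1) ∣ i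
      · obtain ⟨u, hu⟩ := unit_of _ ((pow_dvd_geom_iff D.hodd D.cast_succ_d t j).mpr htspec.2)
          (fun h => hnot ⟨hi, (pow_dvd_geom_iff D.hodd D.cast_succ_d (t + 1) j).mp h⟩)
        refine ⟨(-((u⁻¹ : (ZMod (p ^ D.n))ˣ) : ZMod (p ^ D.n)) * c, 0), ?_⟩
        show D.det (D.coord g) _ = _
        rw [hg, coord_mk, hu, det]
        linear_combination (((p ^ t : ℕ) : ZMod (p ^ D.n)) * c) * u.mul_inv
      · obtain ⟨u, hu⟩ := unit_of i htspec.1 hi
        refine ⟨(0, ((u⁻¹ : (ZMod (p ^ D.n))ˣ) : ZMod (p ^ D.n)) * c), ?_⟩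
        show D.det (D.coord g) _ = _
        rw [hg, coord_mk, hu, det]
        linear_combination (((p ^ t : ℕ) : ZMod (p ^ D.n)) * c) * u.mul_inv
  rw [hst, hidx, Nat.pow_le_pow_iff_right hp.one_lt]
  omega

theorem card_level {s : ℕ} (hs : s ≤ D.n) :
    Nat.card ↥(D.level s) = Nat.card ↥(Subgroup.center G) * (p ^ (D.n - s)) ^ 2 := by
  have h := D.card_subtype (fun u => ((p ^ s : ℕ) : ZMod (p ^ D.n)) ∣ u.1 ∧ ((p ^ s : ℕ) : ZMod (p ^ D.n)) ∣ u.2)
  rw [Nat.card_congr (Equiv.subtypeProdEquivProd (α := ZMod (p ^ D.n)) (β := ZMod (p ^ D.n))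
      (p := fun x => ((p ^ s : ℕ) : ZMod (p ^ D.n)) ∣ x)
      (q := fun x => ((p ^ s : ℕ) : ZMod (p ^ D.n)) ∣ x)), Nat.card_prod,
    card_multiples D hs, ← pow_two] at h
  rw [← h]
  refine Nat.card_congr (Equiv.subtypeEquivRight fun g => ⟨?_, ?_⟩)
  · rintro ⟨v, hv⟩
    exact ⟨⟨v.1, congrArg Prod.fst hv⟩, ⟨v.2, congrArg Prod.snd hv⟩⟩
  · rintro ⟨⟨x, hx⟩, ⟨y, hy⟩⟩
    exact ⟨(x, y), Prod.ext hx hy⟩

omit [Finite G] in
theorem closure_pow_eq {s : ℕ} (hs : s ≤ D.n) :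
    Subgroup.closure {x : G | ∃ y : G, y ^ p ^ s = x} = D.level s := by
  apply le_antisymm
  · rw [Subgroup.closure_le]
    rintro _ ⟨y, rfl⟩
    obtain ⟨i, j, rfl⟩ := D.hgen y
    rw [SetLike.mem_coe, D.mem_level_iff hs (D.pow_eq i j (p ^ s))]
    exact ⟨dvd_mul_of_dvd_right ((pow_dvd_geom_iff D.hodd (by rw [Nat.cast_pow, D.cast_succ_d, one_pow]) s _).mpr
      dvd_rfl) _, dvd_mul_left _ _⟩
  · intro g hg
    obtain ⟨i, j, rfl⟩ := D.hgen g
    obtain ⟨⟨x, rfl⟩, ⟨y, rfl⟩⟩ := (D.mem_level_iff hs rfl).mp hg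
    exact Subgroup.mul_mem _ (Subgroup.subset_closure ⟨D.a ^ x, by rw [← pow_mul, mul_comm]⟩)
      (Subgroup.subset_closure ⟨D.b ^ y, by rw [← pow_mul, mul_comm]⟩)

omit [Finite G] in
theorem level_self : D.level D.n = Subgroup.center G := by
  ext g
  rw [← coord_eq_zero_iff D]
  constructor
  · rintro ⟨v, hv⟩
    rw [hv, ZMod.natCast_self, zero_smul]
  · intro h
    exact ⟨0, by rw [h, smul_zero]⟩

end Data

end Cfsg.Agent.Metacyclic
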