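import Cfsg.Agent.Lib.Metacyclic.Subgroups
import Cfsg.Agent.Lib.CentrallyLarge.Basic

/-!
# Metacyclic p-groups, p odd: the centralizer-large subgroups are those containing the center

`centralizerLarge_iff`.
-/

set_option autoImplicit false

namespace Cfsg.Agent.Metacyclic

variable {G : Type*} [Group G] [Finite G] {p : ℕ} [hp : Fact p.Prime]

namespace Data

variable (D : Data p G)
include D

/-- `|G : C(g)|` is at most the order of `g` modulo the center. -/
theorem index_centralizer_le_order (hG : IsPGroup p G) (g : G) :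
    (Subgroup.centralizer ({g} : Set G)).index ≤ orderOf (g : G ⧸ Subgroup.center G) := by
  obtain ⟨e, he⟩ := IsPGroup.iff_orderOf.1 (hG.to_quotient (Subgroup.center G)) (g : G ⧸ Subgroup.center G)
  obtain ⟨i, j, hg⟩ := D.hgen g
  obtain ⟨w, hw, hwu⟩ := geom_prime_pow_unit (m := D.n) D.hodd (r := (D.d + 1) ^ j)
    (by rw [Nat.cast_pow, D.cast_succ_d, one_pow]) e
  have hc : g ^ p ^ e ∈ Subgroup.center G := by
    rw [← QuotientGroup.eq_one_iff, QuotientGroup.mk_pow, ← he, pow_orderOf_eq_one]
  have h0 : ((p ^ e * w : ℕ) : ZMod (p ^ D.n)) * (D.coord g).1 = 0 ∧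
      ((p ^ e * w : ℕ) : ZMod (p ^ D.n)) * (D.coord g).2 = 0 := by
    have h1 := (D.coord_eq_zero_iff _).2 hc
    rw [hg, D.pow_eq, D.coord_mk, geom_mul, hw, Prod.mk_eq_zero] at h1
    rw [hg, D.coord_mk]
    constructor
    · rw [← h1.1]; push_cast; ring
    · rw [← h1.2]; push_cast; ring
  rw [D.index_centralizer, he]
  set L := AddMonoidHom.mk' (D.det (D.coord g))
    (fun u v => by simp only [det, Prod.fst_add, Prod.snd_add]; ring) with hL
  have hkill : ∀ x ∈ L.range, (p ^ e) • x = 0 := by
    rintro _ ⟨u, rfl⟩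
    have h2 : ((p ^ e * w : ℕ) : ZMod (p ^ D.n)) * L u = 0 := by
      have e1 : L u = (D.coord g).1 * u.2 - (D.coord g).2 * u.1 := rfl
      rw [e1, mul_sub, ← mul_assoc, ← mul_assoc, h0.1, h0.2, zero_mul, zero_mul, sub_zero]
    rw [Nat.cast_mul, mul_assoc, mul_comm (w : ZMod (p ^ D.n)), ← mul_assoc, hwu.mul_left_eq_zero] at h2
    rwa [nsmul_eq_mul]
  obtain ⟨x, hx⟩ := IsAddCyclic.exists_ofOrder_eq_natCard (α := L.range)
  rw [← hx]
  exact Nat.le_of_dvd (pow_pos hp.out.pos e)
    (addOrderOf_dvd_of_nsmul_eq_zero (Subtype.ext (by simpa using hkill x x.2)))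

theorem measure_bound (hG : IsPGroup p G) (R : Subgroup G) :
    Nat.card R * Nat.card (Subgroup.centralizer (R : Set G)) ≤ Nat.card G * Nat.card (Subgroup.center G) := by
  have hp' : p.Prime := hp.out
  have hidx : (commutator G).index ^ 2 = Nat.card G * Nat.card (Subgroup.center G) := by
    have h1 := D.index_commutator_mul
    have h2 := (Subgroup.center G).card_mul_index
    rw [D.index_center] at h2
    have hpos : 0 < (p ^ D.n) ^ 2 := pow_pos (pow_pos hp'.pos _) _
    refine Nat.eq_of_mul_eq_mul_right hpos ?_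
    rw [← mul_pow, h1, mul_assoc, h2, pow_two]
  obtain ⟨R₀, hR₀⟩ := CentrallyLarge.exists_centralizerLarge (P := G)
  refine le_trans (CentrallyLarge.measure_le R) (le_of_le_of_eq ?_ hidx)
  rw [← hR₀]
  -- the center of a large subgroup is large
  have hC := CentrallyLarge.centralizerLarge_centralizer hR₀
  have hA := CentrallyLarge.centralizerLarge_inf hR₀ hC
  rw [hR₀, ← hA]
  set A := R₀ ⊓ Subgroup.centralizer (R₀ : Set G) with hAdef
  set T := Subgroup.centralizer (A : Set G) with hT
  have hAT : A ≤ T := fun a ha b hb => ha.2 b hb.1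
  by_cases hab : IsMulCommutative T
  · have hb : ∀ S : Subgroup G, IsMulCommutative S → Nat.card S ≤ (commutator G).index := fun S hS =>
      (D.card_le_iff hG S).2 ((D.isMulCommutative_iff hG S).1 hS)
    have hTle := hb T hab
    have := (Nat.le_of_dvd Nat.card_pos (Subgroup.card_dvd_of_le hAT)).trans hTle
    rw [pow_two]
    exact Nat.mul_le_mul this hTle
  · rw [← D.card_mul_card_center hG hab, mul_comm]
    refine Nat.mul_le_mul le_rfl (Nat.card_le_card_of_injective (fun a : A => (⟨⟨a, hAT a.2⟩,
      Subgroup.mem_center_iff.2 fun t => Subtype.ext (t.2 a a.2).symm⟩ : Subgroup.center T)) fun a b h => ?_)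
    exact Subtype.ext (congrArg (fun t : Subgroup.center T => ((t : T) : G)) h)

theorem centralizerLarge_of_eq (hG : IsPGroup p G) {R : Subgroup G}
    (h : Nat.card G * Nat.card (Subgroup.center G) ≤ Nat.card R * Nat.card (Subgroup.centralizer (R : Set G))) :
    Cfsg.IsCentralizerLarge R := by
  refine CentrallyLarge.centralizerLarge_of_le (le_trans ?_ h)
  obtain ⟨R₀, hR₀⟩ := CentrallyLarge.exists_centralizerLarge (P := G)
  exact hR₀ ▸ D.measure_bound hG R₀

theorem centralizerLarge_center (hG : IsPGroup p G) : Cfsg.IsCentralizerLarge (Subgroup.center G) := by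
  refine D.centralizerLarge_of_eq hG (le_of_eq ?_)
  rw [show Subgroup.centralizer (Subgroup.center G : Set G) = ⊤ from
    eq_top_iff.2 fun x _ y hy => (Subgroup.mem_center_iff.1 hy x).symm, Subgroup.card_top, mul_comm]

theorem centralizerLarge_cyclic (hG : IsPGroup p G) (g : G) :
    Cfsg.IsCentralizerLarge (Subgroup.center G ⊔ Subgroup.zpowers g) := by
  refine D.centralizerLarge_of_eq hG ?_
  have hC : Subgroup.centralizer ((Subgroup.center G ⊔ Subgroup.zpowers g : Subgroup G) : Set G) =
      Subgroup.centralizer ({g} : Set G) := by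
    rw [CentrallyLarge.centralizer_sup, show Subgroup.centralizer (Subgroup.center G : Set G) = ⊤ from
      eq_top_iff.2 fun x _ y hy => (Subgroup.mem_center_iff.1 hy x).symm, top_inf_eq,
      Subgroup.zpowers_eq_closure, Subgroup.centralizer_closure]
  have hR : Nat.card (Subgroup.center G ⊔ Subgroup.zpowers g : Subgroup G) =
      Nat.card (Subgroup.center G) * orderOf (g : G ⧸ Subgroup.center G) := by
    have h := Subgroup.card_mul_index ((Subgroup.center G).subgroupOf (Subgroup.center G ⊔ Subgroup.zpowers g))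
    rw [Nat.card_congr (Subgroup.subgroupOfEquivOfLe le_sup_left).toEquiv] at h
    rw [← h]
    congr 1
    have hf : ((QuotientGroup.mk' (Subgroup.center G)).comp
        (Subgroup.center G ⊔ Subgroup.zpowers g).subtype).ker =
        (Subgroup.center G).subgroupOf (Subgroup.center G ⊔ Subgroup.zpowers g) := by
      ext x
      rw [MonoidHom.mem_ker, Subgroup.mem_subgroupOf]
      exact QuotientGroup.eq_one_iff _
    rw [← hf, Subgroup.index_ker, ← Nat.card_zpowers]
    refine Nat.card_congr (Equiv.setCongr ?_)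
    rw [MonoidHom.range_comp, Subgroup.range_subtype, Subgroup.map_sup, QuotientGroup.map_mk'_self, bot_sup_eq,
      MonoidHom.map_zpowers]
    rfl
  rw [hC, hR, ← (Subgroup.centralizer ({g} : Set G)).card_mul_index]
  calc _ = Nat.card (Subgroup.center G) * (Subgroup.centralizer ({g} : Set G)).index *
        Nat.card (Subgroup.centralizer ({g} : Set G)) := by ring
    _ ≤ _ := Nat.mul_le_mul_right _ (Nat.mul_le_mul_left _ (D.index_centralizer_le_order hG g))

theorem centralizerLarge_iff (hG : IsPGroup p G) (R : Subgroup G) :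
    Cfsg.IsCentralizerLarge R ↔ Subgroup.center G ≤ R := by
  constructor
  · intro h
    rw [← CentrallyLarge.centralizer_centralizer_eq h]
    exact Subgroup.center_le_centralizer _
  · intro h
    obtain ⟨Q, -, hQ⟩ := Finite.exists_le_maximal (α := Subgroup G)
      (p := fun Q => Q ≤ R ∧ Cfsg.IsCentralizerLarge Q) (a := Subgroup.center G)
      ⟨h, D.centralizerLarge_center hG⟩
    have : Q = R := le_antisymm hQ.prop.1 fun g hg => by
      have h1 := hQ.le_of_ge ⟨sup_le hQ.prop.1 (sup_le h (Subgroup.zpowers_le.2 hg)),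
        CentrallyLarge.centralizerLarge_sup hQ.prop.2 (D.centralizerLarge_cyclic hG g)⟩ le_sup_left
      exact h1 (Subgroup.mem_sup_right (Subgroup.mem_sup_right (Subgroup.mem_zpowers g)))
    exact this ▸ hQ.prop.2

end Data

end Cfsg.Agent.Metacyclic
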