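-- Subgroups of metacyclic p-groups, p odd.
--
-- Main results (namespace `Cfsg.Agent.Metacyclic`):
-- * `Data.exists_shape`: every subgroup is `⟨a ^ p ^ α, a ^ i * b ^ p ^ β⟩` of index `p ^ (α + β)`
-- * `Shape.isMulCommutative_iff`, `Data.isMulCommutative_iff`: abelian iff of order at most `|G : G'|`
-- * `Data.maximal_abelian_iff`, `Data.card_mul_card_center`
import Cfsg.Agent.Lib.Metacyclic.Data

set_option autoImplicit false
set_option linter.unusedSectionVars false

namespace Cfsg.Agent.Metacyclic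

variable {G : Type*} [Group G] {p : ℕ}

/-- The position of a subgroup with respect to the generators. -/
structure Shape (D : Data p G) (L : Subgroup G) where
  /-- `a ^ p ^ α` generates `L ⊓ ⟨a⟩` -/
  α : ℕ
  /-- `b ^ p ^ β` generates the image of `L` -/
  β : ℕ
  /-- exponent of the second generator -/
  i : ℕ
  memA : D.a ^ p ^ α ∈ L
  memX : D.a ^ i * D.b ^ p ^ β ∈ L
  dvdA : ∀ u : ℕ, D.a ^ u ∈ L → p ^ α ∣ u
  dvdB : ∀ u v : ℕ, D.a ^ u * D.b ^ v ∈ L → p ^ β ∣ v

namespace Data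

variable [Fact p.Prime] (D : Data p G) [Finite G]

theorem exists_pow_eq {x y : G} (h : y ∈ Subgroup.zpowers x) : ∃ u : ℕ, y = x ^ u := by
  obtain ⟨u, hu⟩ := mem_powers_iff_mem_zpowers.mpr h
  exact ⟨u, hu.symm⟩

theorem exists_shape (hG : IsPGroup p G) (L : Subgroup G) : Nonempty (Shape D L) := by
  classical
  have hp : p.Prime := Fact.out
  obtain ⟨ea, hea⟩ := IsPGroup.iff_orderOf.mp hG D.a
  obtain ⟨eb, heb⟩ := IsPGroup.iff_orderOf.mp hG D.b
  have hexA : ∃ t, D.a ^ p ^ t ∈ L := ⟨ea, by rw [← hea, pow_orderOf_eq_one]; exact L.one_mem⟩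
  have hexB : ∃ t, ∃ i : ℕ, D.a ^ i * D.b ^ p ^ t ∈ L :=
    ⟨eb, 0, by rw [← heb, pow_orderOf_eq_one, pow_zero, one_mul]; exact L.one_mem⟩
  obtain ⟨i, hi⟩ := Nat.find_spec hexB
  refine ⟨⟨Nat.find hexA, Nat.find hexB, i, Nat.find_spec hexA, hi, ?_, ?_⟩⟩
  · intro u hu
    rcases eq_or_ne u 0 with rfl | hu0
    · exact dvd_zero _
    obtain ⟨s, q, hq, rfl⟩ := Nat.exists_eq_pow_mul_and_not_dvd hu0 p hp.ne_one
    refine dvd_mul_of_dvd_left (pow_dvd_pow p (Nat.find_min' hexA ?_)) q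
    have hcop : Nat.Coprime q (p ^ ea) := Nat.Coprime.pow_right _ ((hp.coprime_iff_not_dvd).mpr hq).symm
    obtain ⟨e, he⟩ := exists_pow_eq_self_of_coprime (x := D.a ^ p ^ s) (n := q)
      (hcop.coprime_dvd_right (hea ▸ orderOf_pow_dvd (p ^ s)))
    rw [← he]
    exact L.pow_mem (by rw [← pow_mul]; exact hu) e
  · intro u v huv
    rcases eq_or_ne v 0 with rfl | hv0
    · exact dvd_zero _
    obtain ⟨s, q, hq, rfl⟩ := Nat.exists_eq_pow_mul_and_not_dvd hv0 p hp.ne_one
    refine dvd_mul_of_dvd_left (pow_dvd_pow p (Nat.find_min' hexB ?_)) q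
    have hcop : Nat.Coprime q (p ^ eb) := Nat.Coprime.pow_right _ ((hp.coprime_iff_not_dvd).mpr hq).symm
    obtain ⟨e, he⟩ := exists_pow_eq_self_of_coprime (x := D.b ^ p ^ s) (n := q)
      (hcop.coprime_dvd_right (heb ▸ orderOf_pow_dvd (p ^ s)))
    have := L.pow_mem huv e
    rw [D.pow_eq, pow_mul D.b (p ^ s * q), pow_mul D.b (p ^ s)] at this
    rw [he] at this
    exact ⟨_, this⟩

end Data

namespace Shape

variable [Fact p.Prime] [Finite G] {D : Data p G} {L : Subgroup G} (S : Shape D L)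

/-- The second generator. -/
abbrev x : G := D.a ^ S.i * D.b ^ p ^ S.β

theorem exists_rep {g : G} (hg : g ∈ L) : ∃ u q : ℕ, g = (D.a ^ p ^ S.α) ^ u * S.x ^ q := by
  obtain ⟨u, v, rfl⟩ := D.hgen g
  obtain ⟨q, rfl⟩ := S.dvdB u v hg
  have hmem : D.a ^ u * D.b ^ (p ^ S.β * q) * (S.x ^ q)⁻¹ ∈ L :=
    L.mul_mem hg (L.inv_mem (L.pow_mem S.memX q))
  have hz : D.a ^ u * D.b ^ (p ^ S.β * q) * (S.x ^ q)⁻¹ ∈ Subgroup.zpowers D.a := by
    rw [Shape.x, D.pow_eq, mul_inv_rev]
    simp only [mul_assoc, mul_inv_cancel_left]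
    exact Subgroup.mul_mem _ (Subgroup.pow_mem _ (Subgroup.mem_zpowers _) _)
      (Subgroup.inv_mem _ (Subgroup.pow_mem _ (Subgroup.mem_zpowers _) _))
  obtain ⟨w, hw⟩ := Data.exists_pow_eq hz
  obtain ⟨u', rfl⟩ := S.dvdA w (hw ▸ hmem)
  exact ⟨u', q, by rw [← pow_mul, ← hw, inv_mul_cancel_right]⟩

theorem index_eq : L.index = p ^ (S.α + S.β) := by
  have hp : p.Prime := Fact.out
  have hb : Function.Bijective (fun ij : Fin (p ^ S.α) × Fin (p ^ S.β) =>
      (QuotientGroup.mk (D.b ^ (ij.2 : ℕ) * D.a ^ (ij.1 : ℕ)) : G ⧸ L)) := by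
    constructor
    · rintro ⟨i, j⟩ ⟨i', j'⟩ h
      simp only at h
      rw [QuotientGroup.eq] at h
      wlog hle : (j : ℕ) ≤ j' generalizing i j i' j'
      · refine (this i' j' i j ?_ (le_of_not_ge hle)).symm
        simpa [mul_inv_rev, mul_assoc] using L.inv_mem h
      obtain ⟨w, hw⟩ := Nat.exists_eq_add_of_le hle
      obtain ⟨u, hu⟩ := Data.exists_pow_eq
        (Subgroup.inv_mem _ (Subgroup.pow_mem _ (Subgroup.mem_zpowers D.a) (i : ℕ)))
      rw [hw, pow_add] at h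
      simp only [mul_inv_rev, mul_assoc, inv_mul_cancel_left] at h
      rw [hu, D.conj_pow_a, ← mul_assoc, ← pow_add] at h
      have hw0 : w = 0 := by
        have h1 := S.dvdB _ _ h
        rcases Nat.eq_zero_or_pos w with h0 | h0
        · exact h0
        · have := Nat.le_of_dvd h0 h1
          have := j'.2
          omega
      subst hw0
      simp only [pow_zero, one_mul, mul_one] at h
      rw [pow_add, ← hu] at h
      have hij : ∀ x y : ℕ, x ≤ y → y < p ^ S.α → (D.a ^ x)⁻¹ * D.a ^ y ∈ L → x = y := by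
        intro x y hxy hy h
        obtain ⟨c, rfl⟩ := Nat.exists_eq_add_of_le hxy
        rw [pow_add, inv_mul_cancel_left] at h
        rcases Nat.eq_zero_or_pos c with h0 | h0
        · omega
        · have := Nat.le_of_dvd h0 (S.dvdA c h)
          omega
      refine Prod.ext (Fin.ext ?_) (Fin.ext (by simpa using hw.symm))
      rcases le_total (i : ℕ) i' with h' | h'
      · exact hij _ _ h' i'.2 h
      · exact (hij _ _ h' i.2 (by simpa [mul_inv_rev] using L.inv_mem h)).symm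
    · intro c
      obtain ⟨g, rfl⟩ := QuotientGroup.mk_surjective c
      obtain ⟨u, v, rfl⟩ := D.hgen g
      set q := v / p ^ S.β
      set v0 := v % p ^ S.β
      have hv : v = v0 + p ^ S.β * q := (Nat.mod_add_div v _).symm
      have hz : (D.b ^ v0)⁻¹ * (D.a ^ u * D.b ^ v) * (S.x ^ q)⁻¹ ∈ Subgroup.zpowers D.a := by
        have hconj : ∀ y ∈ Subgroup.zpowers D.a, ∀ e : ℕ, (D.b ^ e)⁻¹ * y * D.b ^ e ∈ Subgroup.zpowers D.a := by
          intro y hy e
          obtain ⟨o, ho, he⟩ : ∃ o : ℕ, orderOf D.b ∣ o ∧ e ≤ o :=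
            ⟨orderOf D.b * e, dvd_mul_right _ _, Nat.le_mul_of_pos_left e (orderOf_pos _)⟩
          have h1 : (D.b ^ e)⁻¹ = D.b ^ (o - e) := by
            rw [inv_eq_iff_mul_eq_one, ← pow_add, Nat.add_sub_cancel' he, orderOf_dvd_iff_pow_eq_one.mp ho]
          obtain ⟨k, rfl⟩ := Data.exists_pow_eq hy
          rw [h1, D.conj_pow_a, mul_assoc, ← pow_add, Nat.sub_add_cancel he,
            orderOf_dvd_iff_pow_eq_one.mp ho, mul_one]
          exact Subgroup.pow_mem _ (Subgroup.mem_zpowers _) _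
        rw [Shape.x, D.pow_eq, hv, pow_add, mul_inv_rev]
        simp only [mul_assoc, mul_inv_cancel_left]
        have e1 : (D.b ^ v0)⁻¹ * (D.a ^ u * (D.b ^ v0 * (D.a ^ (S.i * geom ((D.d + 1) ^ p ^ S.β) q))⁻¹)) =
            ((D.b ^ v0)⁻¹ * D.a ^ u * D.b ^ v0) * (D.a ^ (S.i * geom ((D.d + 1) ^ p ^ S.β) q))⁻¹ := by group
        rw [e1]
        exact Subgroup.mul_mem _ (hconj _ (Subgroup.pow_mem _ (Subgroup.mem_zpowers _) _) v0)
          (Subgroup.inv_mem _ (Subgroup.pow_mem _ (Subgroup.mem_zpowers _) _))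
      obtain ⟨w, hw⟩ := Data.exists_pow_eq hz
      refine ⟨(⟨w % p ^ S.α, Nat.mod_lt _ (pow_pos hp.pos _)⟩, ⟨v0, Nat.mod_lt _ (pow_pos hp.pos _)⟩), ?_⟩
      simp only
      rw [QuotientGroup.eq]
      have e : D.a ^ u * D.b ^ v = D.b ^ v0 * D.a ^ (w % p ^ S.α) *
          ((D.a ^ p ^ S.α) ^ (w / p ^ S.α) * S.x ^ q) := by
        rw [← pow_mul, mul_assoc (D.b ^ v0), ← mul_assoc (D.a ^ (w % p ^ S.α)), ← pow_add, Nat.mod_add_div,
          ← hw]
        group
      rw [e, inv_mul_cancel_left]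
      exact L.mul_mem (L.pow_mem S.memA _) (L.pow_mem S.memX _)
  rw [Subgroup.index, ← Nat.card_eq_of_bijective _ hb, Nat.card_prod, Nat.card_eq_fintype_card,
    Nat.card_eq_fintype_card, Fintype.card_fin, Fintype.card_fin, ← pow_add]

theorem commute_gen_iff : Commute (D.a ^ p ^ S.α) S.x ↔ D.n ≤ S.α + S.β := by
  have hp : p.Prime := Fact.out
  obtain ⟨w, hw, hw1⟩ := geom_prime_pow_unit (m := D.n) D.hodd D.cast_succ_d S.β
  have ha : D.coord (D.a ^ p ^ S.α) = (((p ^ S.α : ℕ) : ZMod (p ^ D.n)), 0) := by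
    simpa [geom_zero] using D.coord_mk (p ^ S.α) 0
  rw [D.commute_iff, ha, Shape.x, D.coord_mk, Data.det, zero_mul, sub_zero, hw, Nat.cast_mul,
    ← mul_assoc, hw1.mul_left_eq_zero, ← Nat.cast_mul, ← pow_add, ZMod.natCast_eq_zero_iff,
    Nat.pow_dvd_pow_iff_le_right hp.one_lt]

theorem isMulCommutative_iff : IsMulCommutative ↥L ↔ D.n ≤ S.α + S.β := by
  rw [← S.commute_gen_iff]
  refine ⟨fun h => congrArg Subtype.val (h.is_comm.comm ⟨_, S.memA⟩ ⟨_, S.memX⟩), fun h => ⟨⟨fun g k => ?_⟩⟩⟩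
  obtain ⟨u, q, hg⟩ := S.exists_rep g.2
  obtain ⟨u', q', hk⟩ := S.exists_rep k.2
  apply Subtype.ext
  show (g : G) * k = k * g
  rw [hg, hk]
  have h1 : Commute ((D.a ^ p ^ S.α) ^ u) ((D.a ^ p ^ S.α) ^ u') := Commute.pow_pow_self _ _ _
  have h2 : Commute (S.x ^ q) (S.x ^ q') := Commute.pow_pow_self _ _ _
  exact (((h1.mul_right (h.pow_pow u q')).mul_left
    ((h.pow_pow u' q).symm.mul_right h2)) : Commute _ _).eq

/-- A subgroup of a metacyclic `p`-group is metacyclic. -/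
def data : Data p ↥L where
  a := ⟨D.a ^ p ^ S.α, S.memA⟩
  b := ⟨S.x, S.memX⟩
  d := D.d * geom (D.d + 1) (p ^ S.β)
  n := D.n - (S.α + S.β)
  hodd := D.hodd
  hd := dvd_mul_of_dvd_left D.hd _
  hconj := by
    apply Subtype.ext
    simp only [Subgroup.coe_mul, InvMemClass.coe_inv, SubmonoidClass.coe_pow]
    rw [add_comm (D.d * _) 1, ← succ_pow_eq, mul_inv_eq_iff_eq_mul, Shape.x, mul_assoc, D.conj_pow_a,
      ← mul_assoc, ← mul_assoc, ← pow_add, ← pow_mul, ← pow_add, mul_comm ((D.d + 1) ^ p ^ S.β), add_comm]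
  hgen g := by
    obtain ⟨u, q, h⟩ := S.exists_rep g.2
    exact ⟨u, q, Subtype.ext (by simpa using h)⟩
  hn := by
    have hp : p.Prime := Fact.out
    obtain ⟨w, hw, hw1⟩ := geom_prime_pow_unit (m := D.n) D.hodd D.cast_succ_d S.β
    have hwc : Nat.Coprime w (p ^ D.n) := (ZMod.isUnit_iff_coprime _ _).mp hw1
    rw [← Subgroup.orderOf_coe, SubmonoidClass.coe_pow, ← pow_mul, hw,
      show p ^ S.α * (D.d * (p ^ S.β * w)) = D.d * (p ^ (S.α + S.β) * w) by rw [pow_add]; ring,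
      pow_mul, orderOf_pow, D.hn, Nat.Coprime.gcd_mul_right_cancel_right _ hwc]
    rcases le_total D.n (S.α + S.β) with h | h
    · rw [Nat.gcd_eq_left (pow_dvd_pow p h), Nat.div_self (pow_pos hp.pos _), Nat.sub_eq_zero_of_le h, pow_zero]
    · rw [Nat.gcd_eq_right (pow_dvd_pow p h), Nat.pow_div h hp.pos]

end Shape

namespace Data

variable [Fact p.Prime] (D : Data p G) [Finite G]

theorem index_commutator_mul : (commutator G).index * p ^ D.n = Nat.card G := by
  rw [← D.card_commutator, mul_comm, Subgroup.card_mul_index]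

theorem card_le_iff (hG : IsPGroup p G) (L : Subgroup G) :
    Nat.card L ≤ (commutator G).index ↔ p ^ D.n ≤ L.index := by
  have h1 := D.index_commutator_mul
  have h2 := L.card_mul_index
  constructor
  · intro h
    by_contra hlt
    have := Nat.mul_lt_mul_of_le_of_lt h (not_le.mp hlt) (Subgroup.index_ne_zero_of_finite.bot_lt)
    omega
  · intro h
    by_contra hlt
    have := Nat.mul_lt_mul_of_lt_of_le (not_le.mp hlt) h Subgroup.index_ne_zero_of_finite.bot_lt
    omega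

theorem isMulCommutative_iff (hG : IsPGroup p G) (L : Subgroup G) :
    IsMulCommutative ↥L ↔ p ^ D.n ≤ L.index := by
  obtain ⟨S⟩ := D.exists_shape hG L
  rw [S.isMulCommutative_iff, S.index_eq, Nat.pow_le_pow_iff_right (Fact.out : p.Prime).one_lt]

theorem maximal_abelian_iff (hG : IsPGroup p G) (L : Subgroup G) :
    Maximal (fun K : Subgroup G => IsMulCommutative ↥K) L ↔ L.index = p ^ D.n := by
  have hp : p.Prime := Fact.out
  constructor
  · rintro ⟨hL, hmax⟩
    have hle := (D.isMulCommutative_iff hG L).mp hL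
    obtain ⟨e, he⟩ := IsPGroup.iff_card.mp (hG.to_subgroup L)
    obtain ⟨f, hf⟩ := IsPGroup.iff_card.mp hG
    by_contra hne
    have hlt : p ^ D.n < L.index := lt_of_le_of_ne hle (Ne.symm hne)
    have hdvd : p ^ (e + 1) ∣ Nat.card G := by
      rw [hf]
      refine pow_dvd_pow p (Nat.succ_le_of_lt ?_)
      have := L.card_mul_index
      rw [he, hf] at this
      by_contra hfe
      have h2 : p ^ f ≤ p ^ e := Nat.pow_le_pow_right hp.pos (not_lt.mp hfe)
      have h3 : 1 < L.index := lt_of_le_of_lt (Nat.one_le_pow _ _ hp.pos) hlt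
      have h4 : p ^ e * 1 < p ^ e * L.index := Nat.mul_lt_mul_of_pos_left h3 (pow_pos hp.pos _)
      omega
    obtain ⟨K, hK, hLK⟩ := Sylow.exists_subgroup_card_pow_succ hdvd he
    have hKi : p * K.index = L.index := by
      have h1 := L.card_mul_index
      rw [he, ← K.card_mul_index, hK, pow_succ, mul_assoc] at h1
      exact (Nat.eq_of_mul_eq_mul_left (pow_pos hp.pos _) h1).symm
    obtain ⟨S⟩ := D.exists_shape hG L
    obtain ⟨T⟩ := D.exists_shape hG K
    have hKc : IsMulCommutative ↥K := by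
      rw [T.isMulCommutative_iff]
      rw [S.index_eq, T.index_eq, ← pow_succ'] at hKi
      rw [S.index_eq] at hlt
      have := Nat.pow_right_injective hp.two_le hKi
      have := (Nat.pow_lt_pow_iff_right hp.one_lt).mp hlt
      omega
    have := Subgroup.card_le_of_le (hmax hKc hLK)
    rw [hK, he] at this
    exact absurd this (not_le.mpr (Nat.pow_lt_pow_right hp.one_lt (Nat.lt_succ_self e)))
  · intro h
    refine ⟨(D.isMulCommutative_iff hG L).mpr h.ge, fun K hK hLK => ?_⟩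
    have h1 := (D.isMulCommutative_iff hG K).mp hK
    have h2 : K.index ≤ p ^ D.n := h ▸ Subgroup.index_antitone hLK
    have hKc : Nat.card K = Nat.card L := by
      refine Nat.eq_of_mul_eq_mul_right (Subgroup.index_ne_zero_of_finite (H := L)).bot_lt ?_
      rw [L.card_mul_index, h, ← le_antisymm h2 h1, K.card_mul_index]
    exact (Subgroup.eq_of_le_of_card_ge hLK hKc.le).ge

include D in
/-- For a non-abelian subgroup `R`, `|R| · |Z(R)| = |G : G'| ^ 2`. -/
theorem card_mul_card_center (hG : IsPGroup p G) {R : Subgroup G} (hR : ¬ IsMulCommutative ↥R) :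
    Nat.card R * Nat.card ↥(Subgroup.center ↥R) = (commutator G).index ^ 2 := by
  have hp : p.Prime := Fact.out
  obtain ⟨S⟩ := D.exists_shape hG R
  rw [S.isMulCommutative_iff, not_le] at hR
  have h1 : (Subgroup.center ↥R).index = (p ^ (D.n - (S.α + S.β))) ^ 2 := S.data.index_center
  have h2 := (Subgroup.center ↥R).card_mul_index
  have h3 := R.card_mul_index
  rw [S.index_eq] at h3
  have h4 := D.index_commutator_mul
  have h5 : p ^ (D.n - (S.α + S.β)) * p ^ (S.α + S.β) = p ^ D.n := by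
    rw [← pow_add, Nat.sub_add_cancel hR.le]
  refine Nat.eq_of_mul_eq_mul_right (pow_pos (pow_pos hp.pos D.n) 2) ?_
  rw [← mul_pow, h4, ← h5, mul_pow, ← h3]
  rw [h1] at h2
  calc Nat.card R * Nat.card ↥(Subgroup.center ↥R) * ((p ^ (D.n - (S.α + S.β))) ^ 2 * (p ^ (S.α + S.β)) ^ 2)
      = Nat.card R * (Nat.card ↥(Subgroup.center ↥R) * (p ^ (D.n - (S.α + S.β))) ^ 2) * (p ^ (S.α + S.β)) ^ 2 := by
        ring
    _ = (Nat.card R * p ^ (S.α + S.β)) ^ 2 := by rw [h2]; ring

end Data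

end Cfsg.Agent.Metacyclic
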